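import Mathlib
import Cfsg.Agent.Lib.LinearPGroup.BlockMonomial
import Cfsg.Agent.Lib.Classical.SylowLargePrime
import Cfsg.Agent.Lib.Classical.OrthDisc
import Cfsg.Agent.Lib.Classical.DiscClass
import Cfsg.Agent.Lib.Classical.OrthIndexTwo
import Cfsg.Agent.Lib.Classical.OrthCard

/-!
# Diagonal forms and transport of Sylow subgroups along isometries
-/

set_option autoImplicit false

namespace Cfsg.Agent.OrthTwo

open CfsgLib.Orth Cfsg.Agent.BlockMonomial QuadraticMap

variable {F : Type*} [Field F] {ι : Type} [Fintype ι] [DecidableEq ι]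
variable {κ : Type} [Fintype κ] [DecidableEq κ]

/-- The diagonal form. -/
noncomputable def diagQ (w : κ → F) : QuadraticForm F (κ → F) := weightedSumSquares F w

omit [DecidableEq κ] in
theorem diagQ_apply (w : κ → F) (x : κ → F) : diagQ w x = ∑ i, w i * (x i * x i) := by
  simp [diagQ, weightedSumSquares_apply]

omit [DecidableEq κ] in
theorem polar_diagQ (w : κ → F) (x y : κ → F) :
    polar ⇑(diagQ w) x y = ∑ i, 2 * w i * (x i * y i) := by
  simp only [polar, diagQ_apply, Pi.add_apply, ← Finset.sum_sub_distrib]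
  exact Finset.sum_congr rfl fun i _ => by ring

theorem polar_diagQ_single (w : κ → F) (i : κ) (x : κ → F) :
    polar ⇑(diagQ w) (Pi.single i 1) x = 2 * w i * x i := by
  rw [polar_diagQ, Fintype.sum_eq_single i fun j hj => by simp [hj]]
  simp

theorem diagQ_nondeg (h2 : (2 : F) ≠ 0) {w : κ → F} (hw : ∀ i, w i ≠ 0) : Nondeg (diagQ w) := by
  intro x hx
  funext i
  have h := hx (Pi.single i 1)
  rw [b_comm, polar_diagQ_single] at h
  exact (mul_eq_zero.1 h).resolve_left (mul_ne_zero h2 (hw i))

/-- A frame gives an isometry with the diagonal form of the same discriminant class. -/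
theorem exists_diag_iso [Finite F] (h2 : (2 : F) ≠ 0) {Q : QuadraticForm F (ι → F)}
    {w : κ → F} (hw : ∀ j, w j ≠ 0) (e : ι → (ι → F)) (he : ∀ i, Q (e i) ≠ 0)
    (ho : ∀ i j, i ≠ j → polar ⇑Q (e i) (e j) = 0) (hcard : Fintype.card κ = Fintype.card ι)
    (hsq : IsSquare ((∏ i, Q (e i)) * ∏ j, w j)) :
    ∃ φ : (κ → F) ≃ₗ[F] (ι → F), ∀ x, Q (φ x) = diagQ w x := by
  let n := Fintype.card ι
  let ei : ι ≃ Fin n := Fintype.equivFin ι
  let ek : κ ≃ Fin n := Fintype.equivFinOfCardEq hcard
  let u : Fin n → F := fun a => w (ek.symm a)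
  let u' : Fin n → F := fun a => Q (e (ei.symm a))
  have hnd : ∀ v : Fin n → F, (∀ a, v a ≠ 0) → (polarBilin (diagQ v)).Nondegenerate :=
    fun v hv => bilin_nondeg (diagQ_nondeg h2 hv)
  have hdet : ∀ v : Fin n → F, (LinearMap.toMatrix₂' F (polarBilin (diagQ v))).det =
      2 ^ n * ∏ a, v a := by
    intro v
    have hm : LinearMap.toMatrix₂' F (polarBilin (diagQ v)) = Matrix.diagonal fun a => 2 * v a := by
      ext a b
      rw [LinearMap.toMatrix₂'_apply, polarBilin_apply_apply, polar_diagQ_single, Matrix.diagonal_apply]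
      by_cases h : a = b
      · subst h; simp
      · simp [h]
    rw [hm, Matrix.det_diagonal, Finset.prod_mul_distrib, Finset.prod_const, Finset.card_univ,
      Fintype.card_fin]
  obtain ⟨g, hg⟩ := (CfsgLib.Classical.DiscClass.exists_isometry_iff h2 (diagQ u) (diagQ u')
    (hnd u fun a => hw _) (hnd u' fun a => he _)).2 (by
      obtain ⟨r, hr⟩ := hsq
      refine ⟨2 ^ n * r, ?_⟩
      rw [hdet, hdet, Equiv.prod_comp ek.symm w, Equiv.prod_comp ei.symm fun i => Q (e i)]
      linear_combination ((2 : F) ^ n) ^ 2 * hr)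
  let L : (κ → F) →ₗ[F] (ι → F) :=
    { toFun := fun x => ∑ i, g (fun a => x (ek.symm a)) (ei i) • e i
      map_add' := fun x y => by
        rw [show (fun a => (x + y) (ek.symm a)) = (fun a => x (ek.symm a)) + fun a => y (ek.symm a) from rfl,
          map_add, ← Finset.sum_add_distrib]
        exact Finset.sum_congr rfl fun i _ => add_smul _ _ _
      map_smul' := fun c x => by
        rw [show (fun a => (c • x) (ek.symm a)) = c • fun a => x (ek.symm a) from rfl,
          map_smul, RingHom.id_apply, Finset.smul_sum]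
        exact Finset.sum_congr rfl fun i _ => by rw [Pi.smul_apply, smul_eq_mul, mul_smul] }
  have hpol : ∀ (c : ι → F) (j : ι), polar ⇑Q (∑ i, c i • e i) (e j) = c j * (2 * Q (e j)) := by
    intro c j
    rw [← polarBilin_apply_apply, map_sum, LinearMap.sum_apply, Fintype.sum_eq_single j fun i hi => by
      rw [map_smul, LinearMap.smul_apply, polarBilin_apply_apply, ho i j hi, smul_zero]]
    rw [map_smul, LinearMap.smul_apply, polarBilin_apply_apply, b_self, smul_eq_mul]
  have hQ : ∀ c : ι → F, Q (∑ i, c i • e i) = ∑ i, Q (e i) * (c i * c i) := by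
    intro c
    refine mul_left_cancel₀ h2 ?_
    rw [← b_self, Finset.mul_sum]
    rw [← polarBilin_apply_apply]
    conv_lhs => rw [map_sum]
    refine Finset.sum_congr rfl fun j _ => ?_
    rw [map_smul, polarBilin_apply_apply, hpol, smul_eq_mul]
    ring
  have hinj : Function.Injective L := by
    refine (injective_iff_map_eq_zero L).2 fun x hx => ?_
    have hz : g (fun a => x (ek.symm a)) = 0 := by
      funext a
      have h := hpol (fun i => g (fun a => x (ek.symm a)) (ei i)) (ei.symm a)
      rw [show (∑ i, g (fun a => x (ek.symm a)) (ei i) • e i) = 0 from hx, b_zero_left,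
        ei.apply_symm_apply] at h
      exact (mul_eq_zero.1 h.symm).resolve_right (mul_ne_zero h2 (he _))
    funext j
    have := congrFun ((LinearEquiv.map_eq_zero_iff g).1 hz) (ek j)
    simpa using this
  refine ⟨LinearMap.linearEquivOfInjective L hinj (by simp [hcard]), fun x => ?_⟩
  rw [LinearMap.linearEquivOfInjective_apply]
  show Q (∑ i, _ • e i) = _
  rw [hQ, diagQ_apply]
  have h := hg (fun a => x (ek.symm a))
  rw [diagQ_apply, diagQ_apply] at h
  rw [← Equiv.sum_comp ei.symm, ← Equiv.sum_comp ek.symm]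
  simpa [u, u'] using h

/-- Isometric forms have isomorphic isometry groups. -/
theorem exists_grp_iso {Q : QuadraticForm F (ι → F)} {Q' : QuadraticForm F (κ → F)} (hB : Nondeg Q)
    (hB' : Nondeg Q') (φ : (ι → F) ≃ₗ[F] (κ → F)) (hφ : ∀ x, Q' (φ x) = Q x) :
    Nonempty (Grp Q ≃* Grp Q') := by
  have hφ' : ∀ y, Q (φ.symm y) = Q' y := fun y => by rw [← hφ, LinearEquiv.apply_symm_apply]
  have h1 : ∀ g : Grp Q, ∃ g' : Grp Q', ∀ y, ap g' y = φ (ap g (φ.symm y)) := fun g =>
    exists_iso hB' (φ.toLinearMap.comp ((Matrix.toLin' ((g : GL ι F) : Matrix ι ι F)).comp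
      φ.symm.toLinearMap)) (fun y => by
        show Q' (φ (Matrix.toLin' _ (φ.symm y))) = _
        rw [hφ, Matrix.toLin'_apply]
        exact (ap_q g _).trans (hφ' y))
  have h2 : ∀ g : Grp Q', ∃ g' : Grp Q, ∀ x, ap g' x = φ.symm (ap g (φ x)) := fun g =>
    exists_iso hB (φ.symm.toLinearMap.comp ((Matrix.toLin' ((g : GL κ F) : Matrix κ κ F)).comp
      φ.toLinearMap)) (fun x => by
        show Q (φ.symm (Matrix.toLin' _ (φ x))) = _
        rw [hφ', Matrix.toLin'_apply]
        exact (ap_q g _).trans (hφ x))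
  choose a ha using h1
  choose b hb using h2
  exact ⟨{ toFun := a, invFun := b
           left_inv := fun g => ext_ap fun x => by
             rw [hb, ha, LinearEquiv.symm_apply_apply, LinearEquiv.symm_apply_apply]
           right_inv := fun g => ext_ap fun y => by
             rw [ha, hb, LinearEquiv.apply_symm_apply, LinearEquiv.apply_symm_apply]
           map_mul' := fun g g' => ext_ap fun y => by
             rw [ap_mul, ha, ha, ha, ap_mul, LinearEquiv.symm_apply_apply] }⟩

/-- Transport to the derived subgroups of isomorphic groups. -/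
theorem exists_commutator_iso {G H : Type*} [Group G] [Group H] (e : G ≃* H) :
    Nonempty (commutator G ≃* commutator H) := by
  have h : (commutator G).map e.toMonoidHom = commutator H := by
    rw [commutator_def, Subgroup.map_commutator, Subgroup.map_top_of_surjective _ e.surjective,
      ← commutator_def]
  exact ⟨(e.subgroupMap _).trans (MulEquiv.subgroupCongr h)⟩

theorem sqComm_sylow_congr {G H : Type*} [Group G] [Group H] [Finite G] (e : G ≃* H)
    (h : ∀ P : Sylow 2 G, SqComm (P : Subgroup G)) (P : Sylow 2 H) : SqComm (P : Subgroup H) := by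
  haveI : Fact (Nat.Prime 2) := ⟨Nat.prime_two⟩
  haveI : Finite H := Finite.of_equiv G e.toEquiv
  obtain ⟨R⟩ : Nonempty (Sylow 2 G) := inferInstance
  obtain ⟨f⟩ := CfsgLib.Classical.SylowLargePrime.sylow_iso
    (e.toMonoidHom.comp (R : Subgroup G).subtype) (e.injective.comp Subtype.val_injective)
    (by rw [R.card_eq_multiplicity, Nat.card_congr e.toEquiv]) P
  exact sqComm_congr f.symm (h R)

end Cfsg.Agent.OrthTwo
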