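import Mathlib
import Cfsg.Agent.Lib.OrthTwo.Forms
import Cfsg.Agent.Lib.Classical.OrthOrderStd
import Cfsg.Agent.Lib.LinearPGroup.SylowTwoOrders

/-!
# The Sylow 2-subgroup of the isometry group of a plane
-/

set_option autoImplicit false

namespace Cfsg.Agent.OrthTwo

open CfsgLib.Orth Cfsg.Agent.BlockMonomial

variable {F : Type*} [Field F] [Finite F]

theorem fact_of_four_dvd {x : ℕ} (h : 4 ∣ x + 1) : (x - 1).factorization 2 = 1 :=
  Cfsg.Agent.SylowTwoOrders.fact_sub_one_three_mod h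

theorem fact_add_one_of_four_dvd {x : ℕ} (h1 : 1 ≤ x) (h : 4 ∣ x - 1) :
    (x + 1).factorization 2 = 1 := by
  obtain ⟨c, hc⟩ := h
  rw [show x + 1 = 2 * (2 * c + 1) by omega, Nat.factorization_mul two_ne_zero (by omega),
    Finsupp.add_apply, Nat.Prime.factorization_self Nat.prime_two,
    Nat.factorization_eq_zero_of_not_dvd (by omega : ¬ 2 ∣ 2 * c + 1)]

theorem odd_natCard (h2 : (2 : F) ≠ 0) : Odd (Nat.card F) := by
  haveI := Fintype.ofFinite F
  rw [Nat.card_eq_fintype_card, Nat.odd_iff]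
  refine FiniteField.odd_card_of_char_ne_two fun e => h2 ?_
  have := CharP.cast_eq_zero F (ringChar F)
  rwa [e, Nat.cast_ofNat] at this

theorem isSquare_neg_one_iff' (h2 : (2 : F) ≠ 0) :
    IsSquare (-1 : F) ↔ 4 ∣ Nat.card F - 1 := by
  haveI := Fintype.ofFinite F
  have ho := Nat.odd_iff.1 (odd_natCard h2)
  rw [FiniteField.isSquare_neg_one_iff, ← Nat.card_eq_fintype_card]
  omega

theorem ne_neg_one (h2 : (2 : F) ≠ 0) : (-1 : Fˣ) ≠ 1 := fun e => h2 (by
  have := congrArg Units.val e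
  simp at this
  linear_combination -this)

/-- The standard plane. -/
noncomputable abbrev Q2 (F : Type*) [Field F] : QuadraticForm F (Fin 2 → F) := diagQ fun _ => 1

omit [Finite F] in
theorem Q2_nondeg (h2 : (2 : F) ≠ 0) : Nondeg (Q2 F) := diagQ_nondeg h2 fun _ => one_ne_zero

theorem fact_card_plane (h2 : (2 : F) ≠ 0) :
    (Nat.card (Grp (Q2 F))).factorization 2 = (Nat.card F ^ 2 - 1).factorization 2 := by
  have hq : 1 < Nat.card F := Finite.one_lt_card
  have ho := Nat.odd_iff.1 (odd_natCard h2)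
  have hsplit : (Nat.card F ^ 2 - 1).factorization 2 =
      (Nat.card F - 1).factorization 2 + (Nat.card F + 1).factorization 2 := by
    rw [show Nat.card F ^ 2 - 1 = (Nat.card F - 1) * (Nat.card F + 1) by
      obtain ⟨y, hy⟩ : ∃ y, Nat.card F = y + 1 := ⟨Nat.card F - 1, by omega⟩
      rw [hy, Nat.add_sub_cancel]
      apply Nat.sub_eq_of_eq_add
      ring, Nat.factorization_mul (by omega) (by omega), Finsupp.add_apply]
  by_cases h : IsSquare (-1 : F)
  · obtain ⟨Q, hQ, hB⟩ := exists_quadForm_plus (F := F) 1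
    obtain ⟨e, he, ho', hp⟩ := frame_plus h2 1 hQ
    obtain ⟨φ, hφ⟩ := exists_diag_iso (Q := Q) (w := fun _ : Fin 2 => (1 : F)) h2 (fun _ => one_ne_zero)
      e he ho' (by simp) (by rw [hp]; simpa using h)
    rw [card_grp_congr (Q2_nondeg h2) hB φ hφ, card_orth_plus 1 le_rfl hQ hB, hsplit,
      fact_add_one_of_four_dvd hq.le ((isSquare_neg_one_iff' h2).1 h)]
    simp [Nat.factorization_mul two_ne_zero (by omega : Nat.card F - 1 ≠ 0),
      Nat.Prime.factorization_self Nat.prime_two, add_comm]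
  · have hab : ∀ z₁ z₂ : F, z₁ ^ 2 + (0 : F) * z₁ * z₂ + 1 * z₂ ^ 2 = 0 → z₁ = 0 ∧ z₂ = 0 := by
      intro x y hxy
      by_cases hy : y = 0
      · subst hy; exact ⟨by simpa using hxy, rfl⟩
      · exact absurd ⟨x / y, by field_simp; linear_combination -hxy⟩ h
    obtain ⟨Q, hQ, hB⟩ := exists_quadForm_minus 0 hab
    obtain ⟨e, he, ho', hp⟩ := frame_minus h2 0 hab hQ
    obtain ⟨φ, hφ⟩ := exists_diag_iso (Q := Q) (w := fun _ : Fin 2 => (1 : F)) h2 (fun _ => one_ne_zero)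
      e he ho' (by simp) (by rw [hp]; exact ⟨2, by simp; norm_num⟩)
    have h4 : 4 ∣ Nat.card F + 1 := by
      have := (isSquare_neg_one_iff' h2).not.1 h
      omega
    rw [card_grp_congr (Q2_nondeg h2) hB φ hφ, card_orth_minus 1 le_rfl hab hQ hB, hsplit,
      fact_of_four_dvd h4]
    simp [Nat.factorization_mul two_ne_zero (by omega : Nat.card F + 1 ≠ 0),
      Nat.Prime.factorization_self Nat.prime_two]

section
variable {ι : Type} [Fintype ι] [DecidableEq ι] {Q : QuadraticForm F (ι → F)}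

/-- The determinant is the Dickson invariant. -/
theorem detHom_cases (hB : Nondeg Q) (h2 : (2 : F) ≠ 0) (hn : 1 ≤ Module.finrank F (ι → F))
    (g : Grp Q) :
    (detHom Q g = 1 ∧ dickson hB g = 1) ∨ (detHom Q g = -1 ∧ dickson hB g = -1) := by
  have hex : Module.finrank F (ι → F) = 4 → Nat.card F ≠ 2 := fun _ e => by
    have := Nat.odd_iff.1 (odd_natCard h2)
    omega
  rcases Int.units_eq_one_or (dickson hB g) with h | h
  · exact Or.inl ⟨(mem_special_iff_odd hB h2 hex g).2 h, h⟩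
  · obtain ⟨v, hv⟩ := exists_aniso hB hn
    obtain ⟨r, hr⟩ := exists_refl hB hv
    have h1 : detHom Q (r * g) = 1 := (mem_special_iff_odd hB h2 hex (r * g)).2 (by
      rw [map_mul, dickson_refl hB hr, h]; rfl)
    rw [map_mul, detHom_refl hr, neg_mul, one_mul, neg_eq_iff_eq_neg] at h1
    exact Or.inr ⟨h1, h⟩

end

omit [Finite F] in
theorem plane_sq (h2 : (2 : F) ≠ 0) {g : Grp (Q2 F)} (hg : detHom (Q2 F) g = -1) : g * g = 1 := by
  obtain ⟨M, hM⟩ : ∃ M, M = ((g : GL (Fin 2) F) : Matrix (Fin 2) (Fin 2) F) := ⟨_, rfl⟩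
  have hap : ∀ (x : Fin 2 → F) i, ap g x i = M i 0 * x 0 + M i 1 * x 1 := fun x i => by
    subst hM; simp [ap, Matrix.mulVec, dotProduct, Fin.sum_univ_two]
  have h00 := ap_q g ![1, 0]
  have h11 := ap_q g ![0, 1]
  have h01 := ap_b g ![1, 0] ![0, 1]
  simp [diagQ_apply, polar_diagQ, Fin.sum_univ_two, hap] at h00 h11 h01
  have h01' : M 0 0 * M 0 1 + M 1 0 * M 1 1 = 0 := by
    refine mul_left_cancel₀ h2 ?_
    rw [mul_zero]; linear_combination h01
  have hd : M 0 0 * M 1 1 - M 0 1 * M 1 0 = -1 := by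
    rw [← Matrix.det_fin_two, hM]
    exact congrArg Units.val hg
  have e1 : M 1 1 = -M 0 0 := by linear_combination M 0 0 * hd - M 1 1 * h00 + M 1 0 * h01'
  have e2 : M 0 1 = M 1 0 := by linear_combination -M 0 1 * h00 + M 0 0 * h01' - M 1 0 * hd
  refine ext_ap fun x => ?_
  rw [ap_mul, ap_one]
  funext i
  fin_cases i <;> simp [hap, e1, e2]
  · linear_combination x 0 * h00
  · linear_combination x 1 * h00

theorem exists_norm (h2 : (2 : F) ≠ 0) (c : F) : ∃ v : Fin 2 → F, Q2 F v = c := by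
  haveI := Fintype.ofFinite F
  have ho : Fintype.card F % 2 = 1 := by
    rw [← Nat.card_eq_fintype_card]; exact Nat.odd_iff.1 (odd_natCard h2)
  obtain ⟨x, y, hxy⟩ := FiniteField.exists_root_sum_quadratic
    (f := Polynomial.X ^ 2) (g := Polynomial.X ^ 2 - Polynomial.C c)
    (Polynomial.degree_X_pow 2) (Polynomial.degree_X_pow_sub_C (by norm_num) c) ho
  simp at hxy
  exact ⟨![x, y], by simp [diagQ_apply, Fin.sum_univ_two]; linear_combination hxy⟩

/-- The Sylow subgroup of the plane group. -/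
theorem exists_plane (h2 : (2 : F) ≠ 0) : ∃ D : Subgroup (Grp (Q2 F)),
    Nat.card D = 2 ^ (Nat.card F ^ 2 - 1).factorization 2 ∧
    Subgroup.closure {d : D | detHom (Q2 F) d = -1} = ⊤ ∧
    (∀ d : D, detHom (Q2 F) d = -1 → d * d = 1) ∧
    ∀ c : F, c ≠ 0 → ∃ d : D, ∃ v, IsRefl v (d : Grp (Q2 F)) ∧ Q2 F v = c := by
  haveI : Fact (Nat.Prime 2) := ⟨Nat.prime_two⟩
  have hB := Q2_nondeg h2
  obtain ⟨S⟩ : Nonempty (Sylow 2 (Grp (Q2 F))) := inferInstance
  have hn : 1 ≤ Module.finrank F (Fin 2 → F) := by simp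
  have hrefl : ∀ c : F, c ≠ 0 → ∃ d : (S : Subgroup (Grp (Q2 F))), ∃ v,
      IsRefl v (d : Grp (Q2 F)) ∧ Q2 F v = c := by
    intro c hc
    obtain ⟨v, hv⟩ := exists_norm h2 c
    obtain ⟨r, hr⟩ := exists_refl hB (hv ▸ hc : Q2 F v ≠ 0)
    have hr2 : r * r = 1 := plane_sq h2 (detHom_refl hr)
    have hp : IsPGroup 2 (Subgroup.zpowers r) := by
      rintro ⟨y, n, rfl⟩
      exact ⟨1, Subtype.ext (by
        rw [pow_one, SubmonoidClass.coe_pow, OneMemClass.coe_one, sq, ← (Commute.refl r).mul_zpow,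
          hr2, one_zpow])⟩
    obtain ⟨S', hS'⟩ := hp.exists_le_sylow
    obtain ⟨g, hg⟩ := MulAction.exists_smul_eq (Grp (Q2 F)) S' S
    have hmem : g * r * g⁻¹ ∈ (S : Subgroup (Grp (Q2 F))) := by
      rw [← hg, Sylow.coe_subgroup_smul]
      exact ⟨r, hS' (Subgroup.mem_zpowers r), by simp⟩
    exact ⟨⟨_, hmem⟩, ap g v, refl_conj hr g, by rw [ap_q, hv]⟩
  refine ⟨S, by rw [S.card_eq_multiplicity, fact_card_plane h2], ?_,
    fun d hd => Subtype.ext (plane_sq h2 hd), hrefl⟩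
  obtain ⟨r, v, hr, -⟩ := hrefl 1 one_ne_zero
  rw [eq_top_iff]
  intro d _
  have hrd := detHom_refl hr
  rcases detHom_cases hB h2 hn (d : Grp (Q2 F)) with ⟨h, -⟩ | ⟨h, -⟩
  · have h1 : detHom (Q2 F) ((r * d : (S : Subgroup (Grp (Q2 F)))) : Grp (Q2 F)) = -1 := by
      rw [Subgroup.coe_mul, map_mul, hrd, h, mul_one]
    rw [show d = r⁻¹ * (r * d) from (inv_mul_cancel_left r d).symm]
    exact mul_mem (inv_mem (Subgroup.subset_closure hrd)) (Subgroup.subset_closure h1)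
  · exact Subgroup.subset_closure h

end Cfsg.Agent.OrthTwo
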