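import Mathlib
import Cfsg.Agent.Lib.OrthTwo.Plane
import Cfsg.Agent.Lib.LinearPGroup.SylowTwoOrders
import Cfsg.Agent.Lib.Classical.OrthForms
import Cfsg.Agent.Lib.SL2.Facts

/-!
# The power of two in the orders of orthogonal groups
-/

set_option autoImplicit false

namespace Cfsg.Agent.OrthTwo

open Cfsg.Agent.SylowTwoOrders

variable {q : ℕ}

theorem fact_prod_even (hq : 1 < q) (hodd : Odd q) (n : ℕ) :
    (∏ i ∈ Finset.range n, (q ^ (2 * (i + 1)) - 1)).factorization 2 =
      n * (q ^ 2 - 1).factorization 2 + n.factorial.factorization 2 := by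
  rw [Nat.factorization_prod fun i _ => by
      have : 1 < q ^ (2 * (i + 1)) := Nat.one_lt_pow (by omega) hq
      omega, Finset.sum_apply', fact_factorial]
  have h : ∀ i ∈ Finset.range n, (q ^ (2 * (i + 1)) - 1).factorization 2 =
      (q ^ 2 - 1).factorization 2 + (i + 1).factorization 2 := fun i _ => by
    rw [pow_mul]
    exact lte_two (Nat.one_lt_pow two_ne_zero hq) (four_dvd_sq_sub_one hodd) _ (by omega)
  rw [Finset.sum_congr rfl h, Finset.sum_add_distrib, Finset.sum_const, Finset.card_range,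
    smul_eq_mul]

theorem fact_pm (hq : 1 < q) (hodd : Odd q) {m : ℕ} (hm : 1 ≤ m) :
    (4 ∣ q ^ m - 1 → (q ^ m + 1).factorization 2 = 1 ∧
      (q ^ m - 1).factorization 2 + 1 = (q ^ 2 - 1).factorization 2 + m.factorization 2) ∧
    (¬ 4 ∣ q ^ m - 1 → (q ^ m - 1).factorization 2 = 1 ∧
      (q ^ m + 1).factorization 2 + 1 = (q ^ 2 - 1).factorization 2 + m.factorization 2) := by
  have h1 : 1 < q ^ m := Nat.one_lt_pow (by omega) hq
  have hsum : (q ^ m - 1).factorization 2 + (q ^ m + 1).factorization 2 =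
      (q ^ 2 - 1).factorization 2 + m.factorization 2 := by
    rw [← lte_two (Nat.one_lt_pow two_ne_zero hq) (four_dvd_sq_sub_one hodd) m (by omega),
      ← pow_mul, mul_comm 2 m, pow_mul, show (q ^ m) ^ 2 - 1 = (q ^ m - 1) * (q ^ m + 1) by
        obtain ⟨y, hy⟩ : ∃ y, q ^ m = y + 1 := ⟨q ^ m - 1, by omega⟩
        rw [hy, Nat.add_sub_cancel]
        apply Nat.sub_eq_of_eq_add
        ring, Nat.factorization_mul (by omega) (by omega), Finsupp.add_apply]
  refine ⟨fun h => ?_, fun h => ?_⟩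
  · have := fact_add_one_of_four_dvd h1.le h
    omega
  · have ho := Nat.odd_iff.1 (hodd.pow (n := m))
    have := fact_of_four_dvd (show 4 ∣ q ^ m + 1 by omega)
    omega

theorem fact_factorial_succ {m : ℕ} (hm : 1 ≤ m) :
    m.factorial.factorization 2 = m.factorization 2 + (m - 1).factorial.factorization 2 := by
  obtain ⟨n, rfl⟩ : ∃ n, m = n + 1 := ⟨m - 1, by omega⟩
  rw [Nat.factorial_succ, Nat.factorization_mul (by omega) (Nat.factorial_ne_zero n),
    Finsupp.add_apply, Nat.add_sub_cancel]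

variable {F : Type*} [Field F] [Finite F]

theorem isSquare_neg_one_pow (h2 : (2 : F) ≠ 0) (m : ℕ) :
    IsSquare ((-1 : F) ^ m) ↔ 4 ∣ Nat.card F ^ m - 1 := by
  have ho := Nat.odd_iff.1 (odd_natCard h2)
  rcases Nat.even_or_odd m with h | h
  · refine iff_of_true (by rw [h.neg_one_pow]; exact IsSquare.one) ?_
    obtain ⟨c, rfl⟩ := h
    rw [← two_mul, pow_mul]
    exact (four_dvd_sq_sub_one (odd_natCard h2)).trans
      (by simpa using Nat.sub_dvd_pow_sub_pow (Nat.card F ^ 2) 1 c)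
  · rw [h.neg_one_pow, isSquare_neg_one_iff' h2]
    obtain ⟨c, rfl⟩ := h
    have hc : Nat.card F ^ (2 * c + 1) % 4 = Nat.card F % 4 := by
      rw [pow_succ, pow_mul, Nat.mul_mod, Nat.pow_mod, Nat.pow_mod (Nat.card F) 2]
      rcases (show Nat.card F % 4 = 1 ∨ Nat.card F % 4 = 3 by omega) with e | e <;> rw [e] <;> norm_num
    omega

theorem not_isSquare_disc (h2 : (2 : F) ≠ 0) {a b : F}
    (hab : ∀ z₁ z₂ : F, z₁ ^ 2 + a * z₁ * z₂ + b * z₂ ^ 2 = 0 → z₁ = 0 ∧ z₂ = 0) :
    ¬ IsSquare (a ^ 2 - 4 * b) := by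
  rintro ⟨s, hs⟩
  exact h2 (hab (s - a) 2 (by linear_combination -hs)).2

theorem two_ne_zero_of_odd {F : Type*} [Field F] [Fintype F] (hF : Odd (Fintype.card F)) :
    (2 : F) ≠ 0 :=
  CfsgLib.SL2.odd_card_two_ne_zero (by rwa [Nat.card_eq_fintype_card])

end Cfsg.Agent.OrthTwo
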