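import Mathlib
import Cfsg.Agent.Lib.LinearPGroup.BlockMonomial
import Cfsg.Agent.Lib.Classical.SylowLargePrime

/-!
# Kernels of characters on groups generated by involutions
-/

set_option autoImplicit false

namespace Cfsg.Agent.OrthTwo

open Cfsg.Agent.BlockMonomial

/-- The kernel of a two-valued character on an involution-generated group is generated by involutions. -/
theorem sqComm_ker {X V : Type*} [Group X] [CommGroup V] (ψ : X →* V) (S : Set X)
    (hS : Subgroup.closure S = ⊤) (hinv : ∀ s ∈ S, s * s = 1) (a b : V) (ha : a ≠ 1) (hb : b ≠ 1)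
    (hab : a * b ≠ 1) (hval : ∀ s ∈ S, ψ s = 1 ∨ ψ s = a ∨ ψ s = b)
    (hlink : ∀ s ∈ S, ∀ t ∈ S, ψ s = ψ t → ψ s ≠ 1 →
      s * t = t * s ∨ ∃ u ∈ S, ψ u = ψ s ∧ u * s = s * u ∧ u * t = t * u)
    (hpair : ∃ A ∈ S, ∃ B ∈ S, ψ A = a ∧ ψ B = b ∧ A * B = B * A) :
    SqComm ψ.ker := by
  set I : Set X := {x | ψ x = 1 ∧ x * x = 1} with hI
  set J : Subgroup X := Subgroup.closure I with hJdef
  have hJ : J ≤ ψ.ker := (Subgroup.closure_le _).2 fun x hx => hx.1
  haveI : J.Normal := by
    refine ⟨fun n hn g => ?_⟩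
    induction hn using Subgroup.closure_induction with
    | mem y hy => exact Subgroup.subset_closure ⟨by simp [hy.1],
        by rw [show g * y * g⁻¹ * (g * y * g⁻¹) = g * (y * y) * g⁻¹ by group, hy.2, mul_one, mul_inv_cancel]⟩
    | one => simp
    | mul x y _ _ hx hy =>
      rw [show g * (x * y) * g⁻¹ = (g * x * g⁻¹) * (g * y * g⁻¹) by group]
      exact mul_mem hx hy
    | inv x _ hx =>
      rw [show g * x⁻¹ * g⁻¹ = (g * x * g⁻¹)⁻¹ by group]
      exact inv_mem hx
  set π := QuotientGroup.mk' J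
  have hπsq : ∀ s ∈ S, π s * π s = 1 := fun s hs => by rw [← map_mul, hinv s hs, map_one]
  have hcomm : ∀ s ∈ S, ∀ t ∈ S, ψ s = ψ t → s * t = t * s → π s = π t := by
    intro s hs t ht he hc
    have h1 : π (s * t) = 1 := by
      refine (QuotientGroup.eq_one_iff (N := J) _).2 (Subgroup.subset_closure ⟨?_, ?_⟩)
      · rw [map_mul, ← he, ← map_mul, hinv s hs, map_one]
      · calc s * t * (s * t) = s * t * (t * s) := by rw [← hc]
          _ = s * (t * t) * s := by group
          _ = 1 := by rw [hinv t ht, mul_one, hinv s hs]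
    rw [map_mul] at h1
    calc π s = π s * π t * π t := by rw [mul_assoc, hπsq t ht, mul_one]
      _ = π t := by rw [h1, one_mul]
  have hsame : ∀ s ∈ S, ∀ t ∈ S, ψ s = ψ t → ψ s ≠ 1 → π s = π t := by
    intro s hs t ht he hne
    rcases hlink s hs t ht he hne with h | ⟨u, hu, hue, hus, hut⟩
    · exact hcomm s hs t ht he h
    · rw [← hcomm u hu s hs hue hus, hcomm u hu t ht (hue.trans he) hut]
  obtain ⟨A, hA, B, hB, hψA, hψB, hAB⟩ := hpair
  have hπAB : Commute (π A) (π B) := Commute.map hAB π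
  have key : ∀ x : X, ∃ i j : ℕ, π x = π A ^ i * π B ^ j ∧ ψ x = a ^ i * b ^ j := by
    intro x
    have hone : ∀ s ∈ S, ∃ i j : ℕ, π s = π A ^ i * π B ^ j ∧ ψ s = a ^ i * b ^ j := by
      intro s hs
      rcases hval s hs with h | h | h
      · refine ⟨0, 0, ?_, by simp [h]⟩
        simp only [pow_zero, mul_one]
        exact (QuotientGroup.eq_one_iff (N := J) _).2 (Subgroup.subset_closure ⟨h, hinv s hs⟩)
      · exact ⟨1, 0, by simp [hsame s hs A hA (h.trans hψA.symm) (by rw [h]; exact ha)], by simp [h]⟩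
      · exact ⟨0, 1, by simp [hsame s hs B hB (h.trans hψB.symm) (by rw [h]; exact hb)], by simp [h]⟩
    have hmul : ∀ x y : X, (∃ i j : ℕ, π x = π A ^ i * π B ^ j ∧ ψ x = a ^ i * b ^ j) →
        (∃ i j : ℕ, π y = π A ^ i * π B ^ j ∧ ψ y = a ^ i * b ^ j) →
        ∃ i j : ℕ, π (x * y) = π A ^ i * π B ^ j ∧ ψ (x * y) = a ^ i * b ^ j := by
      rintro x y ⟨i, j, h1, h2⟩ ⟨i', j', h1', h2'⟩
      refine ⟨i + i', j + j', ?_, ?_⟩
      · rw [map_mul, h1, h1', pow_add, pow_add, mul_assoc, ← mul_assoc (π B ^ j),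
          ((hπAB.pow_pow i' j).symm).eq]
        group
      · rw [map_mul, h2, h2', pow_add, pow_add]
        exact mul_mul_mul_comm _ _ _ _
    have hx : x ∈ Subgroup.closure S := hS ▸ Subgroup.mem_top x
    induction hx using Subgroup.closure_induction'' with
    | mem y hy => exact hone y hy
    | inv_mem y hy =>
      rw [inv_eq_of_mul_eq_one_right (hinv y hy)]
      exact hone y hy
    | one => exact ⟨0, 0, by simp, by simp⟩
    | mul u v _ _ hu hv => exact hmul u v hu hv
  have hle : ψ.ker ≤ J := by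
    intro x hx
    obtain ⟨i, j, h1, h2⟩ := key x
    have ha2 : a ^ 2 = 1 := by rw [sq, ← hψA, ← map_mul, hinv A hA, map_one]
    have hb2 : b ^ 2 = 1 := by rw [sq, ← hψB, ← map_mul, hinv B hB, map_one]
    have hA2 : π A ^ 2 = 1 := by rw [sq, hπsq A hA]
    have hB2 : π B ^ 2 = 1 := by rw [sq, hπsq B hB]
    rw [pow_eq_pow_mod i ha2, pow_eq_pow_mod j hb2, MonoidHom.mem_ker.1 hx] at h2
    rw [pow_eq_pow_mod i hA2, pow_eq_pow_mod j hB2] at h1
    refine (QuotientGroup.eq_one_iff (N := J) _).1 (show π x = 1 from ?_)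
    rcases Nat.mod_two_eq_zero_or_one i with hi | hi <;>
      rcases Nat.mod_two_eq_zero_or_one j with hj | hj <;> rw [hi, hj] at h1 h2
    · simpa using h1
    · exact absurd (by simpa using h2.symm) hb
    · exact absurd (by simpa using h2.symm) ha
    · exact absurd (by simpa using h2.symm) hab
  refine sqComm_of_closure (s := {y : ψ.ker | y * y = 1}) ?_ fun y hy => by
    rw [sq, show y * y = 1 from hy]; exact Subgroup.one_mem _
  refine Subgroup.map_injective ψ.ker.subtype_injective (le_antisymm ?_ ?_)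
  · exact Subgroup.map_mono le_top
  · rw [← MonoidHom.range_eq_map, Subgroup.range_subtype, MonoidHom.map_closure]
    refine hle.trans (Subgroup.closure_mono fun x hx => ?_)
    exact ⟨⟨x, hx.1⟩, Subtype.ext hx.2, rfl⟩

end Cfsg.Agent.OrthTwo
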