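import Mathlib
import Cfsg.Agent.Lib.OrthTwo.Kernel
import Cfsg.Agent.Lib.OrthTwo.Plane
import Cfsg.Agent.Lib.LinearPGroup.BlockMonomial
import Cfsg.Agent.Lib.LinearPGroup.SylowTwoOrders

/-!
# The block model of a Sylow 2-subgroup of an orthogonal group
-/

set_option autoImplicit false

namespace Cfsg.Agent.OrthTwo

open CfsgLib.Orth Cfsg.Agent.BlockMonomial Matrix

variable {F : Type*} [Field F] [Finite F] {k r : ℕ}

/-- The index type of the model. -/
abbrev Idx (k r : ℕ) : Type := (Fin 2 × Fin k) ⊕ Fin r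

/-- The form of the model. -/
noncomputable abbrev Q0 (k : ℕ) (w : Fin r → F) : QuadraticForm F (Idx k r → F) :=
  diagQ (Sum.elim (fun _ => 1) w)

omit [Finite F] in
theorem Q0_nondeg (h2 : (2 : F) ≠ 0) (k : ℕ) {w : Fin r → F} (hw : ∀ t, w t ≠ 0) :
    Nondeg (Q0 k w) := diagQ_nondeg h2 (by rintro (i | i); exacts [one_ne_zero, hw i])

omit [Finite F] in
theorem Q0_apply (w : Fin r → F) (x : Idx k r → F) :
    Q0 k w x = (∑ a : Fin k, Q2 F fun i => x (.inl (i, a))) + ∑ t, w t * (x (.inr t) * x (.inr t)) := by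
  simp [diagQ_apply, Fintype.sum_sum_type, Fintype.sum_prod_type_right]

/-- The matrices of a subgroup of the plane group. -/
noncomputable def planeRep (D : Subgroup (Grp (Q2 F))) : D →* Matrix (Fin 2) (Fin 2) F :=
  (Units.coeHom _).comp ((Cfsg.isometryGroup F ⇑(Q2 F)).subtype.comp D.subtype)

variable (P : Subgroup (Equiv.Perm (Fin k))) (D : Subgroup (Grp (Q2 F)))

/-- The matrices of the model. -/
noncomputable def modelMat : BM P D × (Fin r → ℤˣ) →* Matrix (Idx k r) (Idx k r) F where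
  toFun x := Matrix.fromBlocks (rep (planeRep D) x.1) 0 0
    (Matrix.diagonal fun t => ((x.2 t : ℤ) : F))
  map_one' := by
    simp [Matrix.diagonal_one, Matrix.fromBlocks_one]
  map_mul' x y := by
    simp [Matrix.fromBlocks_multiply, Matrix.diagonal_mul_diagonal, map_mul]

omit [Finite F] in
theorem modelMat_inl (x : BM P D × (Fin r → ℤˣ)) (v : Idx k r → F) (i : Fin 2) (a : Fin k) :
    (modelMat P D x *ᵥ v) (.inl (i, a)) =
      ap ((x.1.left a : D) : Grp (Q2 F))
        (fun j => v (.inl (j, (x.1.right : Equiv.Perm (Fin k))⁻¹ a))) i := by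
  simp only [modelMat, MonoidHom.coe_mk, OneHom.coe_mk, Matrix.fromBlocks_mulVec, Sum.elim_inl,
    Matrix.zero_mulVec, add_zero]
  simp only [Matrix.mulVec, dotProduct, Function.comp_apply, Fintype.sum_prod_type]
  show ∑ j, ∑ b, rep (planeRep D) x.1 (i, a) (j, b) * v (.inl (j, b)) = _
  simp only [ap, Matrix.mulVec, dotProduct]
  refine Finset.sum_congr rfl fun j _ => ?_
  rw [Fintype.sum_eq_single ((x.1.right : Equiv.Perm (Fin k))⁻¹ a)]
  · simp [rep, planeRep]
  · intro b hb
    simp [rep]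
    exact fun e => absurd e hb

omit [Finite F] in
theorem modelMat_inr (x : BM P D × (Fin r → ℤˣ)) (v : Idx k r → F) (t : Fin r) :
    (modelMat P D x *ᵥ v) (.inr t) = ((x.2 t : ℤ) : F) * v (.inr t) := by
  simp [modelMat, Matrix.fromBlocks_mulVec, Matrix.mulVec_diagonal]

omit [Finite F] in
theorem exists_model (h2 : (2 : F) ≠ 0) (w : Fin r → F) :
    ∃ f : BM P D × (Fin r → ℤˣ) →* Grp (Q0 k w), Function.Injective f ∧
      (∀ x v i a, ap (f x) v (.inl (i, a)) =
        ap ((x.1.left a : D) : Grp (Q2 F))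
          (fun j => v (.inl (j, (x.1.right : Equiv.Perm (Fin k))⁻¹ a))) i) ∧
      ∀ x v t, ap (f x) v (.inr t) = ((x.2 t : ℤ) : F) * v (.inr t) := by
  let f0 : BM P D × (Fin r → ℤˣ) →* GL (Idx k r) F := (modelMat P D).toHomUnits
  have hmem : ∀ x, f0 x ∈ Cfsg.isometryGroup F ⇑(Q0 k w) := by
    intro x u _
    show Q0 k w (modelMat P D x *ᵥ u) = Q0 k w u
    rw [Q0_apply, Q0_apply]
    simp only [modelMat_inl, modelMat_inr, ap_q]
    congr 1
    · exact Equiv.sum_comp (x.1.right : Equiv.Perm (Fin k))⁻¹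
        fun a => Q2 F fun i => u (.inl (i, a))
    · refine Finset.sum_congr rfl fun t _ => ?_
      rcases Int.units_eq_one_or (x.2 t) with h | h <;> simp [h]
  refine ⟨f0.codRestrict _ hmem, ?_, fun x v i a => modelMat_inl P D x v i a,
    fun x v t => modelMat_inr P D x v t⟩
  intro x y h
  have hm : modelMat P D x = modelMat P D y := congrArg (fun g : Grp (Q0 k w) =>
    ((g : GL (Idx k r) F) : Matrix (Idx k r) (Idx k r) F)) h
  obtain ⟨h1, -, -, h4⟩ := Matrix.fromBlocks_inj.1 hm
  refine Prod.ext (rep_injective (fun a b e => Subtype.ext (Subtype.ext (Units.ext e))) h1)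
    (funext fun t => ?_)
  have := congrFun (Matrix.diagonal_injective h4) t
  rcases Int.units_eq_one_or (x.2 t) with hx | hx <;> rcases Int.units_eq_one_or (y.2 t) with hy | hy <;>
    simp [hx, hy] at this ⊢
  · exact h2 (by linear_combination this)
  · exact h2 (by linear_combination -this)

end Cfsg.Agent.OrthTwo
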