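import Mathlib
import Cfsg.Agent.Lib.OrthTwo.Plane

/-!
# Permutations of coordinates of a diagonal form
-/

set_option autoImplicit false

namespace Cfsg.Agent.OrthTwo

open CfsgLib.Orth

variable {F : Type*} [Field F] {k r : ℕ}

theorem sq_eq_one_units_prod (x : ℤˣ × ℤˣ) : x * x = 1 :=
  Prod.ext (Int.units_mul_self _) (Int.units_mul_self _)

theorem exists_permHom (h2 : (2 : F) ≠ 0) {w : Fin r → F} (hw : ∀ t, w t ≠ 0) :
    ∃ φ : Equiv.Perm (Fin 2 × Fin k) →* Grp (diagQ (Sum.elim (fun _ : Fin 2 × Fin k => (1 : F)) w)),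
      ∀ σ x, (∀ p, ap (φ σ) x (.inl p) = x (.inl (σ⁻¹ p))) ∧ ∀ t, ap (φ σ) x (.inr t) = x (.inr t) := by
  have hB : Nondeg (diagQ (Sum.elim (fun _ : Fin 2 × Fin k => (1 : F)) w)) :=
    diagQ_nondeg h2 (by rintro (i | i); exacts [one_ne_zero, hw i])
  have h : ∀ σ : Equiv.Perm (Fin 2 × Fin k),
      ∃ g : Grp (diagQ (Sum.elim (fun _ : Fin 2 × Fin k => (1 : F)) w)),
        ∀ x p, ap g x p = x (Sum.map (⇑σ⁻¹) id p) := by
    intro σ
    obtain ⟨g, hg⟩ := exists_iso hB (LinearMap.funLeft F F (Sum.map (⇑σ⁻¹) id)) fun x => by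
      simp only [diagQ_apply, Fintype.sum_sum_type, LinearMap.funLeft_apply, Sum.map_inl, Sum.map_inr,
        Sum.elim_inl, Sum.elim_inr, id]
      congr 1
      exact Equiv.sum_comp σ⁻¹ fun p => (1 : F) * (x (.inl p) * x (.inl p))
    exact ⟨g, fun x p => by rw [hg]; rfl⟩
  choose g hg using h
  refine ⟨MonoidHom.mk' g fun σ τ => ext_ap fun x => funext fun p => ?_, fun σ x => ⟨fun p => hg σ x _, fun t => hg σ x _⟩⟩
  rw [ap_mul, hg, hg, hg]
  rcases p with p | p <;> simp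

/-- A permutation of the planes has trivial image in every character of exponent two. -/
theorem map_blocks_eq_one {V : Type*} [CommGroup V] (hV : ∀ v : V, v * v = 1)
    (χ : Equiv.Perm (Fin 2 × Fin k) →* V) (π : Equiv.Perm (Fin k)) :
    χ (Equiv.prodCongr (Equiv.refl (Fin 2)) π) = 1 := by
  let σ₀ : Equiv.Perm (Fin 2 × Fin k) :=
    Equiv.prodShear (Equiv.refl (Fin 2)) fun i => if i = 0 then π else 1
  let τ : Equiv.Perm (Fin 2 × Fin k) := Equiv.prodCongr (Equiv.swap 0 1) (Equiv.refl _)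
  have h : Equiv.prodCongr (Equiv.refl (Fin 2)) π = τ * σ₀ * τ⁻¹ * σ₀ := by
    have hτ : τ⁻¹ = τ := by
      refine inv_eq_of_mul_eq_one_right (Equiv.ext fun p => ?_)
      rcases p with ⟨i, a⟩
      simp [τ]
    rw [hτ]
    refine Equiv.ext fun p => ?_
    rcases p with ⟨i, a⟩
    fin_cases i <;> simp [σ₀, τ, Equiv.prodShear]
  rw [h, map_mul, map_mul, map_mul, map_inv, mul_comm (χ τ), mul_assoc (χ σ₀), mul_inv_cancel, mul_one,
    hV]

end Cfsg.Agent.OrthTwo
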