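import Mathlib
import Cfsg.Agent.Lib.OrthTwo.Model
import Cfsg.Agent.Lib.OrthTwo.Perms

/-!
# Squares in Sylow 2-subgroups of `Ω`
-/

set_option autoImplicit false

namespace Cfsg.Agent.OrthTwo

open CfsgLib.Orth Cfsg.Agent.BlockMonomial Matrix

variable {F : Type*} [Field F] [Finite F] {k r : ℕ}

theorem card_model (D : Subgroup (Grp (Q2 F))) {V : ℕ} (hD : Nat.card D = 2 ^ V)
    [Fact (Nat.Prime 2)] (R : Sylow 2 (Equiv.Perm (Fin k))) :
    Nat.card (BM (R : Subgroup (Equiv.Perm (Fin k))) D × (Fin r → ℤˣ)) =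
      2 ^ (k * V + k.factorial.factorization 2 + r) := by
  rw [Nat.card_prod, card_BM, hD, Cfsg.Agent.SylowTwoOrders.card_sylow_perm, Nat.card_fun,
    Nat.card_fin, Nat.card_fin, Nat.card_eq_fintype_card (α := ℤˣ), Fintype.card_units_int,
    ← pow_mul, ← pow_add, ← pow_add, mul_comm V]

theorem closure_model (P : Subgroup (Equiv.Perm (Fin k))) (D : Subgroup (Grp (Q2 F)))
    (hP : P ≤ Subgroup.closure {x | x ∈ P ∧ x ^ 2 = 1}) (S : Set D) (hS : Subgroup.closure S = ⊤) :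
    Subgroup.closure ({x : BM P D × (Fin r → ℤˣ) |
        ∃ i, ∃ d ∈ S, x = (SemidirectProduct.inl (Pi.mulSingle i d), 1)} ∪
      {x | ∃ π : P, π ^ 2 = 1 ∧ x = (SemidirectProduct.inr π, 1)} ∪
      {x | ∃ t, x = (1, Pi.mulSingle t (-1))}) = ⊤ := by
  rw [eq_top_iff]
  set K := Subgroup.closure ({x : BM P D × (Fin r → ℤˣ) |
        ∃ i, ∃ d ∈ S, x = (SemidirectProduct.inl (Pi.mulSingle i d), 1)} ∪
      {x | ∃ π : P, π ^ 2 = 1 ∧ x = (SemidirectProduct.inr π, 1)} ∪
      {x | ∃ t, x = (1, Pi.mulSingle t (-1))}) with hK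
  have h1 : (⊤ : Subgroup (BM P D)) ≤ K.comap (MonoidHom.inl _ _) := by
    rw [← closure_BM hP S hS, Subgroup.closure_le]
    rintro g (⟨i, d, hd, rfl⟩ | ⟨π, hπ, rfl⟩)
    · exact Subgroup.subset_closure (Or.inl (Or.inl ⟨i, d, hd, rfl⟩))
    · exact Subgroup.subset_closure (Or.inl (Or.inr ⟨π, hπ, rfl⟩))
  have h2 : ∀ y : Fin r → ℤˣ, y ∈ K.comap (MonoidHom.inr (BM P D) _) := fun y => by
    refine Subgroup.pi_mem_of_mulSingle_mem _ fun t => ?_
    rcases Int.units_eq_one_or (y t) with h | h <;> rw [h]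
    · rw [Pi.mulSingle_one]; exact one_mem _
    · exact Subgroup.subset_closure (Or.inr ⟨t, rfl⟩)
  rintro ⟨g, y⟩ -
  rw [show (g, y) = (g, (1 : Fin r → ℤˣ)) * ((1 : BM P D), y) by simp]
  exact mul_mem (h1 (Subgroup.mem_top g)) (h2 y)

/-- The Sylow 2-subgroups of `Ω` of the model form. -/
theorem sqComm_model (h2 : (2 : F) ≠ 0) (hk : 2 ≤ k) {w : Fin r → F} (hw : ∀ t, w t ≠ 0)
    (hv : (Nat.card (Grp (Q0 k w))).factorization 2 =
      k * (Nat.card F ^ 2 - 1).factorization 2 + k.factorial.factorization 2 + r)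
    (P : Sylow 2 (Cfsg.Omega F ⇑(Q0 k w))) :
    SqComm (P : Subgroup (Cfsg.Omega F ⇑(Q0 k w))) := by
  haveI : Fact (Nat.Prime 2) := ⟨Nat.prime_two⟩
  have hB := Q0_nondeg h2 k hw
  have hn : 2 ≤ Module.finrank F (Idx k r → F) := by simp; omega
  obtain ⟨D, hD, hDgen, hDinv, hDrefl⟩ := exists_plane (F := F) h2
  obtain ⟨R⟩ : Nonempty (Sylow 2 (Equiv.Perm (Fin k))) := inferInstance
  obtain ⟨f, hf, hfl, hfr⟩ := exists_model (R : Subgroup (Equiv.Perm (Fin k))) D h2 w
  obtain ⟨hΩ, hψtop, hcls⟩ := omega_eq_ker_psi hB h2 hn (a := 1) one_ne_zero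
  let X := BM (R : Subgroup (Equiv.Perm (Fin k))) D × (Fin r → ℤˣ)
  let ψ : X →* ℤˣ × ℤˣ := (psi hB 1).comp f
  let E : Fin k → D → X := fun i d => (SemidirectProduct.inl (Pi.mulSingle i d), 1)
  -- reflections in the planes
  have hrefl : ∀ i (d : D) v, IsRefl v (d : Grp (Q2 F)) →
      ∃ z : Idx k r → F, IsRefl z (f (E i d)) ∧ Q0 k w z = Q2 F v := by
    intro i d v hd
    let z : Idx k r → F := Sum.elim (fun p => if p.2 = i then v p.1 else 0) 0
    have hQz : Q0 k w z = Q2 F v := by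
      rw [Q0_apply, Fintype.sum_eq_single i]
      · simp [z]
      · intro a ha; simp [z, ha, diagQ_apply]
    refine ⟨z, ⟨by rw [hQz]; exact hd.1, fun x => funext fun p => ?_⟩, hQz⟩
    have hbz : QuadraticMap.polar ⇑(Q0 k w) z x =
        QuadraticMap.polar ⇑(Q2 F) v fun j => x (.inl (j, i)) := by
      rw [polar_diagQ, polar_diagQ, Fintype.sum_sum_type, Fintype.sum_prod_type_right,
        Fintype.sum_eq_single i]
      · simp [z]
      · intro a ha; simp [z, ha]
    rw [hQz, hbz]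
    rcases p with ⟨j, a⟩ | t
    · rw [hfl]
      by_cases ha : a = i
      · subst ha
        simp [E, z, hd.2]
      · simp [E, z, ha, ap_one]
    · rw [hfr]
      simp [E, z]
  have hval : ∀ i c, c ≠ 0 → ∃ d : D, detHom (Q2 F) d = -1 ∧ ∃ z : Idx k r → F,
      IsRefl z (f (E i d)) ∧ Q0 k w z = c := by
    intro i c hc
    obtain ⟨d, v, hd, rfl⟩ := hDrefl c hc
    exact ⟨d, detHom_refl hd, hrefl i d v hd⟩
  haveI := Fintype.ofFinite F
  obtain ⟨δ, hδ⟩ := FiniteField.exists_nonsquare (F := F) fun e => h2 (by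
    have := CharP.cast_eq_zero F (ringChar F)
    rwa [e, Nat.cast_ofNat] at this)
  have hδ0 : δ ≠ 0 := fun e => hδ (e ▸ IsSquare.zero)
  obtain ⟨dA, hdA, zA, hzA, hQA⟩ := hval ⟨0, by omega⟩ 1 one_ne_zero
  obtain ⟨dB, hdB, zB, hzB, hQB⟩ := hval ⟨1, by omega⟩ δ hδ0
  obtain ⟨A, hA⟩ : ∃ A, A = E ⟨0, by omega⟩ dA := ⟨_, rfl⟩
  obtain ⟨B', hB'⟩ : ∃ B', B' = E ⟨1, by omega⟩ dB := ⟨_, rfl⟩
  rw [← hA] at hzA
  rw [← hB'] at hzB
  -- values
  have hdic : ∀ {z : Idx k r → F} {x : X}, IsRefl z (f x) → (ψ x).1 = -1 :=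
    fun h => dickson_refl hB h
  have hAB : (ψ A).2 ≠ (ψ B').2 := fun e => hδ (by
    have := (hcls _ _ _ _ hzA hzB).1 e
    rwa [hQA, hQB, one_mul] at this)
  have hneg : ∀ x : X, (ψ x).1 = -1 → ψ x = ψ A ∨ ψ x = ψ B' := by
    intro x hx
    have h1 := hdic hzA
    have h2' := hdic hzB
    rcases Int.units_eq_one_or (ψ x).2 with h | h <;>
      rcases Int.units_eq_one_or (ψ A).2 with h' | h' <;>
      rcases Int.units_eq_one_or (ψ B').2 with h'' | h'' <;>
      first
        | exact absurd (h'.trans h''.symm) hAB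
        | exact Or.inl (Prod.ext (hx.trans h1.symm) (h.trans h'.symm))
        | exact Or.inr (Prod.ext (hx.trans h2'.symm) (h.trans h''.symm))
  have hplane : ∀ i x, (ψ x).1 = -1 → ∃ d : D, detHom (Q2 F) d = -1 ∧ ψ (E i d) = ψ x := by
    intro i x hx
    rcases hneg x hx with h | h <;> rw [h]
    · obtain ⟨d, hd, z, hz, hQ⟩ := hval i 1 one_ne_zero
      refine ⟨d, hd, Prod.ext ((hdic hz).trans (hdic hzA).symm) ?_⟩
      exact (hcls _ _ _ _ hz hzA).2 (by rw [hQ, hQA]; exact ⟨1, rfl⟩)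
    · obtain ⟨d, hd, z, hz, hQ⟩ := hval i δ hδ0
      refine ⟨d, hd, Prod.ext ((hdic hz).trans (hdic hzB).symm) ?_⟩
      exact (hcls _ _ _ _ hz hzB).2 (by rw [hQ, hQB]; exact ⟨δ, rfl⟩)
  have hdet : ∀ x : X, ((detHom (Q0 k w) (f x) : Fˣ) : F) =
      (∏ i, ((detHom (Q2 F) (x.1.left i : Grp (Q2 F)) : Fˣ) : F)) * ∏ t, ((x.2 t : ℤ) : F) := by
    intro x
    have hM : (((f x : Grp (Q0 k w)) : GL (Idx k r) F) : Matrix (Idx k r) (Idx k r) F) =
        modelMat (R : Subgroup (Equiv.Perm (Fin k))) D x := by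
      refine Matrix.ext_iff_mulVec.mpr fun v => funext fun p => ?_
      rcases p with ⟨i, a⟩ | t
      · rw [modelMat_inl]; exact hfl x v i a
      · rw [modelMat_inr]; exact hfr x v t
    show (((f x : Grp (Q0 k w)) : GL (Idx k r) F) : Matrix (Idx k r) (Idx k r) F).det = _
    rw [hM]
    simp only [modelMat, MonoidHom.coe_mk, OneHom.coe_mk]
    rw [Matrix.det_fromBlocks_zero₁₂, rep_det, Matrix.det_diagonal]
    congr 1
    rw [Fintype.card_fin, ← Int.cast_pow, ← Units.val_pow_eq_pow_val, Int.units_sq, Units.val_one,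
      Int.cast_one, mul_one]
    rfl
  have hdneg : ∀ x : X, ((detHom (Q0 k w) (f x) : Fˣ) : F) = -1 → (ψ x).1 = -1 := by
    intro x hx
    rcases detHom_cases hB h2 (by omega) (f x) with ⟨h, -⟩ | ⟨-, h⟩
    · rw [h, Units.val_one] at hx
      exact absurd (by linear_combination hx) h2
    · exact h
  -- the generators
  obtain ⟨S, hS⟩ : ∃ S : Set X, S = {x | ∃ i, ∃ d ∈ {d : D | detHom (Q2 F) d = -1},
        x = (SemidirectProduct.inl (Pi.mulSingle i d), 1)} ∪
      {x | ∃ π : (R : Subgroup (Equiv.Perm (Fin k))), π ^ 2 = 1 ∧ x = (SemidirectProduct.inr π, 1)} ∪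
      {x | ∃ t, x = (1, Pi.mulSingle t (-1))} := ⟨_, rfl⟩
  have hgen : Subgroup.closure S = ⊤ :=
    hS ▸ closure_model _ D (sylow_gen R) _ hDgen
  have hE : ∀ i (d : D), detHom (Q2 F) (d : Grp (Q2 F)) = -1 → E i d ∈ S ∧ E i d * E i d = 1 ∧
      (ψ (E i d)).1 = -1 := by
    intro i d hd
    refine ⟨hS ▸ Or.inl (Or.inl ⟨i, d, hd, rfl⟩), ?_, hdneg _ ?_⟩
    · refine Prod.ext ?_ (mul_one 1)
      show (SemidirectProduct.inl (Pi.mulSingle i d) * SemidirectProduct.inl (Pi.mulSingle i d) :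
        BM (R : Subgroup (Equiv.Perm (Fin k))) D) = 1
      rw [← map_mul, ← Pi.mulSingle_mul, hDinv d hd, Pi.mulSingle_one, map_one]
    · rw [hdet, Fintype.prod_eq_single i]
      · simp [E, hd]
      · intro j hj; simp [E, hj]
  have hone : ∀ π : (R : Subgroup (Equiv.Perm (Fin k))), ψ (SemidirectProduct.inr π, 1) = 1 := by
    intro π
    obtain ⟨φ, hφ⟩ := exists_permHom (k := k) h2 hw
    have he : f (SemidirectProduct.inr π, 1) =
        φ (Equiv.prodCongr (Equiv.refl (Fin 2)) (π : Equiv.Perm (Fin k))) := by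
      refine ext_ap fun x => funext fun p => ?_
      rcases p with ⟨i, a⟩ | t
      · rw [hfl, (hφ _ x).1]
        simp [ap_one]
      · rw [hfr, (hφ _ x).2]
        simp
    show psi hB 1 (f _) = 1
    rw [he]
    exact map_blocks_eq_one sq_eq_one_units_prod ((psi hB 1).comp φ) _
  have hcom : ∀ i j (d e : D), i ≠ j → E i d * E j e = E j e * E i d := by
    intro i j d e hij
    have h : Commute (Pi.mulSingle i d : Fin k → D) (Pi.mulSingle j e) :=
      Pi.mulSingle_commute (f := fun _ : Fin k => D) hij d e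
    exact Prod.ext (h.map SemidirectProduct.inl).eq rfl
  have hcom' : ∀ i (d : D) (y : Fin r → ℤˣ), E i d * (1, y) = (1, y) * E i d := fun i d y => by
    exact Prod.ext ((mul_one _).trans (one_mul _).symm) ((one_mul _).trans (mul_one _).symm)
  have hsq : SqComm ψ.ker := by
    refine sqComm_ker ψ S hgen ?_ (ψ A) (ψ B') ?_ ?_ ?_ ?_ ?_ ?_
    · rw [hS]
      rintro x ((⟨i, d, hd, rfl⟩ | ⟨π, hπ, rfl⟩) | ⟨t, rfl⟩)
      · exact (hE i d hd).2.1
      · rw [Prod.mk_mul_mk, ← map_mul, ← sq, hπ, map_one, one_mul]; rfl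
      · rw [Prod.mk_mul_mk, one_mul, ← Pi.mulSingle_mul, Int.units_mul_self, Pi.mulSingle_one]; rfl
    · intro h; exact absurd ((hdic hzA).symm.trans (congrArg Prod.fst h)) (by decide)
    · intro h; exact absurd ((hdic hzB).symm.trans (congrArg Prod.fst h)) (by decide)
    · intro h
      exact hAB (eq_inv_of_mul_eq_one_left (congrArg Prod.snd h) |>.trans (Int.units_inv_eq_self _))
    · rw [hS]
      rintro x ((⟨i, d, hd, rfl⟩ | ⟨π, -, rfl⟩) | ⟨t, rfl⟩)
      · exact Or.inr (hneg _ (hE i d hd).2.2)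
      · exact Or.inl (hone π)
      · refine Or.inr (hneg _ (hdneg _ ?_))
        rw [hdet, Fintype.prod_eq_single (α := Fin r) t]
        · simp
        · intro j hj; simp [hj]
    · intro s hs t ht he hne
      rw [hS] at hs ht
      rcases hs with (⟨i, d, hd, rfl⟩ | ⟨π, -, rfl⟩) | ⟨a, rfl⟩
      · rcases ht with (⟨j, e, he', rfl⟩ | ⟨π, -, rfl⟩) | ⟨b, rfl⟩
        · by_cases hij : i = j
          · subst hij
            obtain ⟨l, hl⟩ : ∃ l : Fin k, l ≠ i :=
              Fintype.exists_ne_of_one_lt_card (by simp; omega) i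
            obtain ⟨u, hu, hue⟩ := hplane l _ (hE i d hd).2.2
            exact Or.inr ⟨E l u, (hE l u hu).1, hue, hcom l i u d hl, hcom l i u e hl⟩
          · exact Or.inl (hcom i j d e hij)
        · exact absurd (he.trans (hone π)) hne
        · exact Or.inl (hcom' i d _)
      · exact absurd (hone π) hne
      · rcases ht with (⟨j, e, he', rfl⟩ | ⟨π, -, rfl⟩) | ⟨b, rfl⟩
        · exact Or.inl (hcom' j e _).symm
        · exact absurd (he.trans (hone π)) hne
        · exact Or.inl (Prod.ext rfl (mul_comm _ _))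
    · exact ⟨A, hA ▸ (hE _ dA hdA).1, B', hB' ▸ (hE _ dB hdB).1, rfl, rfl,
        by rw [hA, hB']; exact hcom _ _ _ _ (by simp [Fin.ext_iff])⟩
  -- orders
  have hsurj : ψ.range = ⊤ := by
    refine (Subgroup.eq_top_iff' _).2 fun y => ?_
    have h1 := hdic hzA
    have h2' := hdic hzB
    rcases Int.units_eq_one_or y.1 with hy | hy
    · rcases Int.units_eq_one_or y.2 with hy' | hy'
      · rw [show y = 1 from Prod.ext hy hy']; exact one_mem _
      · refine ⟨A * B', Prod.ext ?_ ?_⟩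
        · rw [map_mul, Prod.fst_mul, h1, h2', hy]; rfl
        · rw [map_mul, Prod.snd_mul, hy']
          rcases Int.units_eq_one_or (ψ A).2 with h | h <;>
            rcases Int.units_eq_one_or (ψ B').2 with h' | h' <;>
            first
              | exact absurd (h.trans h'.symm) hAB
              | (rw [h, h']; rfl)
    · rcases Int.units_eq_one_or y.2 with hy' | hy' <;>
        rcases Int.units_eq_one_or (ψ A).2 with h | h <;>
        rcases Int.units_eq_one_or (ψ B').2 with h' | h' <;>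
        first
          | exact absurd (h.trans h'.symm) hAB
          | exact ⟨A, Prod.ext (h1.trans hy.symm) (h.trans hy'.symm)⟩
          | exact ⟨B', Prod.ext (h2'.trans hy.symm) (h'.trans hy'.symm)⟩
  have h4 : Nat.card (ℤˣ × ℤˣ) = 2 ^ 2 := by
    rw [Nat.card_prod, Nat.card_eq_fintype_card, Fintype.card_units_int]; norm_num
  have hindex : Nat.card (Grp (Q0 k w)) = 2 ^ 2 * Nat.card (Cfsg.Omega F ⇑(Q0 k w)) := by
    rw [hΩ, Subgroup.card_eq_card_quotient_mul_card_subgroup (psi hB (1 : F)).ker,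
      Nat.card_congr (QuotientGroup.quotientKerEquivRange (psi hB (1 : F))).toEquiv, hψtop,
      Subgroup.card_top, h4]
  have hX := card_model (r := r) D hD R
  have hkerX : 2 ^ (k * (Nat.card F ^ 2 - 1).factorization 2 + k.factorial.factorization 2 + r) =
      2 ^ 2 * Nat.card ψ.ker := by
    rw [← hX, Subgroup.card_eq_card_quotient_mul_card_subgroup ψ.ker,
      Nat.card_congr (QuotientGroup.quotientKerEquivRange ψ).toEquiv, hsurj, Subgroup.card_top, h4]
  have hmem : ∀ x : ψ.ker, f x ∈ Cfsg.Omega F ⇑(Q0 k w) := fun x => hΩ ▸ x.2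
  let g : ψ.ker →* Cfsg.Omega F ⇑(Q0 k w) := (f.comp ψ.ker.subtype).codRestrict _ hmem
  have hg : Function.Injective g := fun x y h =>
    Subtype.ext (hf (congrArg Subtype.val h))
  have hcard : Nat.card ψ.ker =
      2 ^ (Nat.card (Cfsg.Omega F ⇑(Q0 k w))).factorization 2 := by
    have h := hv
    rw [hindex, Nat.factorization_mul (by norm_num) Nat.card_pos.ne', Finsupp.add_apply,
      Nat.Prime.factorization_pow Nat.prime_two, Finsupp.single_eq_same] at h
    rw [← h, pow_add] at hkerX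
    exact (Nat.eq_of_mul_eq_mul_left (by norm_num) hkerX).symm
  obtain ⟨e⟩ := CfsgLib.Classical.SylowLargePrime.sylow_iso g hg hcard P
  exact sqComm_congr e.symm hsq

/-- The Sylow 2-subgroups of `Ω` of a form with a frame. -/
theorem sqComm_of_frame {ι : Type} [Fintype ι] [DecidableEq ι] (h2 : (2 : F) ≠ 0)
    {Q : QuadraticForm F (ι → F)} (hB : Nondeg Q) (hk : 2 ≤ k) {w : Fin r → F} (hw : ∀ t, w t ≠ 0)
    (e : ι → (ι → F)) (he : ∀ i, Q (e i) ≠ 0)
    (ho : ∀ i j, i ≠ j → QuadraticMap.polar ⇑Q (e i) (e j) = 0)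
    (hι : Fintype.card ι = 2 * k + r) (hsq : IsSquare ((∏ i, Q (e i)) * ∏ t, w t))
    (hv : (Nat.card (Grp Q)).factorization 2 =
      k * (Nat.card F ^ 2 - 1).factorization 2 + k.factorial.factorization 2 + r)
    (P : Sylow 2 (Cfsg.Omega F ⇑Q)) : SqComm (P : Subgroup (Cfsg.Omega F ⇑Q)) := by
  have hw' : ∀ j : Idx k r, Sum.elim (fun _ => (1 : F)) w j ≠ 0 := by
    rintro (i | i); exacts [one_ne_zero, hw i]
  obtain ⟨φ, hφ⟩ := exists_diag_iso (Q := Q) h2 hw' e he ho (by simp [hι])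
    (by simpa [Fintype.prod_sum_type] using hsq)
  obtain ⟨ε⟩ := exists_grp_iso (Q0_nondeg h2 k hw) hB φ hφ
  rw [← Nat.card_congr ε.toEquiv] at hv
  obtain ⟨ε'⟩ := exists_commutator_iso ε
  exact sqComm_sylow_congr ε' (sqComm_model h2 hk hw hv) P

end Cfsg.Agent.OrthTwo
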